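import Cfsg.Agent.Lib.PLocal.FFStatements

/-!
# Abelian best offenders on a faithful module in characteristic two are elementary

In a setup with self-centralising `p'`-group, an abelian 2-group which maximises `|B| |C_V(B)|`
among its own subgroups squares to the identity.
-/

set_option autoImplicit false

namespace CfsgLib.Core.ThompsonS3

open Subgroup CfsgLib.PLocal CfsgLib.PLocal.FF
open scoped commutatorElement

variable {G : Type*} [Group G] [Finite G] [Fact (Nat.Prime 2)] {V H K : Subgroup G}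

theorem exists_fac_decomp (h : Setup 2 V H K) {k : ℕ} (X : Fin k → Subgroup G)
    (hX : ∀ i, Tv 2 V H (X i)) (s : Finset (Fin k)) : ∀ v ∈ V,
      ∃ c ∈ V, (∀ i ∈ s, c ∈ centralizer (fac K (X i) : Set G)) ∧
        ∃ q ∈ ⨆ i, ⁅V, fac K (X i)⁆, v = c * q := by
  classical
  induction s using Finset.induction with
  | empty => exact fun v hv => ⟨v, hv, fun i hi => absurd hi (Finset.notMem_empty i), 1, one_mem _, (mul_one v).symm⟩
  | @insert a s has ih =>
    intro v hv
    obtain ⟨c, hc, hcs, q, hq, rfl⟩ := ih v hv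
    have sA := fac_spec h (hX a)
    have hc' : c ∈ ((⁅V, fac K (X a)⁆ ⊔ (V ⊓ centralizer (fac K (X a) : Set G)) : Subgroup G) : Set G) :=
      sA.sup.symm ▸ hc
    rw [coe_mul_of_left_le_normalizer_right _ _ (comm_le_normalizer h sA.comm_le inf_le_left)] at hc'
    obtain ⟨w, hw, c', hc', rfl⟩ := hc'
    refine ⟨c', (mem_inf.1 hc').1, fun i hi => ?_, w * q,
      mul_mem (mem_iSup_of_mem a hw) hq, ?_⟩
    · rcases Finset.mem_insert.1 hi with rfl | hi
      · exact (mem_inf.1 hc').2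
      · rcases fac_cases h (hX a) (hX i) with he | ⟨h1, -, -⟩
        · rw [← he]; exact (mem_inf.1 hc').2
        · have := mul_mem (inv_mem (h1 hw)) (hcs i hi)
          simpa using this
    · have hcomm : w * c' = c' * w := comm_of_mem h.elem.1 (sA.comm_le hw) (mem_inf.1 hc').1
      show w * c' * q = _
      rw [hcomm, mul_assoc]

theorem bestOffender_of_abelian (h : Setup 2 V H K) {B : Subgroup G} (hBH : B ≤ H)
    (hB : IsPGroup 2 B) (hab : IsMulCommutative B)
    (hbest : ∀ D : Subgroup G, D ≤ B → offMeasure V D ≤ offMeasure V B) :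
    Cfsg.IsBestOffenderOn 2 V B := by
  classical
  have hBV : B ≤ normalizer (V : Set G) := hBH.trans h.norm
  have hBB : ⁅B, B⁆ ≤ centralizer (V : Set G) := by
    rw [(commutator_self_eq_bot_iff (H := B)).2 hab]; exact bot_le
  obtain ⟨htie, hC1⟩ := thompson_replacement h.elem.1 hBV hBB hbest V le_rfl
  set W := ⁅V, B⁆ with hW
  set B1 := B ⊓ centralizer (W : Set G) with hB1
  have hVV : ∀ x ∈ V, ∀ y ∈ V, x * y = y * x := fun x hx y hy => comm_of_mem h.elem.1 hx hy
  have hVp : IsPGroup 2 V := isPGroup_of_elementary h.elem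
  have hsq1 : ∀ b : G, ∀ v : G, ⁅b, v⁆ * b = b * ⁅b, v⁆ → ⁅b, v⁆ ∈ V →
      b ^ 2 * v * (b ^ 2)⁻¹ = v := by
    intro b v hbl hlV
    set l := ⁅b, v⁆ with hl
    calc b ^ 2 * v * (b ^ 2)⁻¹ = (b * l * b⁻¹) * (b * v * b⁻¹) := by
          rw [pow_two]; simp only [hl, commutatorElement_def]; group
      _ = l * (l * v) := by
          rw [← hbl, mul_inv_cancel_right, hl, commutatorElement_def]
          group
      _ = l ^ 2 * v := by rw [pow_two, mul_assoc]
      _ = v := by rw [h.elem.2 l hlV, one_mul]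
  have hB1best : Cfsg.IsBestOffenderOn 2 V B1 := by
    refine ⟨fun D hD => ?_, (commutator_mono inf_le_left inf_le_left).trans hBB, fun b hb => ?_⟩
    · have := hbest D (hD.trans inf_le_left)
      rw [← htie] at this
      exact this
    · refine mem_centralizer_iff.2 fun v hv => ?_
      have hm : ⁅b, v⁆ ∈ W := comm_mem_commutator_swap (mem_inf.1 hb).1 hv
      have := hsq1 b v ((mem_centralizer_iff.1 (mem_inf.1 hb).2 _ hm))
        (commutator_le_of_le_normalizer hBV le_rfl hm)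
      exact (mul_inv_eq_iff_eq_mul.1 this).symm
  obtain ⟨k, X, hX, -, hsup⟩ := h.decompose _ B1 le_rfl (inf_le_left.trans hBH) hB1best
  have hXB : ∀ i, X i ≤ B := fun i => (hX i).1.trans inf_le_left
  have hTv : ∀ i, Tv 2 V H (X i) := fun i => ⟨(hXB i).trans hBH, (hX i).2.2, (hX i).2.1⟩
  set P := ⨆ i, ⁅V, fac K (X i)⁆ with hP
  set L := ⨆ i, ⁅V, X i⁆ with hL
  set U := V ⊓ centralizer ((⨆ i, fac K (X i) : Subgroup G) : Set G) with hU
  have hXn : ∀ i, B ≤ normalizer (X i : Set G) := fun i =>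
    ((le_centralizer_iff_isMulCommutative.2 hab).trans
      (centralizer_le (SetLike.coe_subset_coe.2 (hXB i)))).trans (centralizer_le_normalizer _)
  have hsupn : ∀ (M N : Subgroup G) (g : G), g ∈ normalizer (M : Set G) → g ∈ normalizer (N : Set G) →
      g ∈ normalizer ((M ⊔ N : Subgroup G) : Set G) := by
    intro M N g hM hN
    rw [mem_normalizer_iff_map_conj_eq, Subgroup.map_sup, mem_normalizer_iff_map_conj_eq.1 hM,
      mem_normalizer_iff_map_conj_eq.1 hN]
  have hFn : ∀ i, B ≤ normalizer (fac K (X i) : Set G) := fun i b hb =>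
    hsupn _ _ b (comm_normalized (h.normK (hBH hb)) (hXn i hb)) (hXn i hb)
  have hFsn : B ≤ normalizer ((⨆ i, fac K (X i) : Subgroup G) : Set G) := by
    intro b hb
    rw [mem_normalizer_iff_map_conj_eq, Subgroup.map_iSup]
    exact iSup_congr fun i => mem_normalizer_iff_map_conj_eq.1 (hFn i hb)
  have hUn : B ≤ normalizer (U : Set G) := norm_cent h hBH hFsn
  have hFle : ∀ i, fac K (X i) ≤ H := fun i => (fac_spec h (hTv i)).le
  have hUV : U ≤ V := inf_le_left
  have hPV : P ≤ V := iSup_le fun i => (fac_spec h (hTv i)).comm_le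
  have hLV : L ≤ V := iSup_le fun i => (hTv i).comm_le h
  have hUP : V ≤ U ⊔ P := by
    intro v hv
    obtain ⟨c, hc, hcs, q, hq, rfl⟩ := exists_fac_decomp h X hTv Finset.univ v hv
    refine mul_mem (mem_sup_left (mem_inf.2 ⟨hc, ?_⟩)) (mem_sup_right hq)
    have h1 : (⨆ i, fac K (X i)) ≤ centralizer ({c} : Set G) := iSup_le fun i f hf =>
      mem_centralizer_singleton_iff.2 (mem_centralizer_iff.1 (hcs i (Finset.mem_univ i)) f hf)
    exact mem_centralizer_iff.2 fun f hf => mem_centralizer_singleton_iff.1 (h1 hf)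
  -- lines are fixed
  have hLfix : ∀ b ∈ B, ∀ l ∈ L, b * l = l * b := by
    intro b hb
    have : L ≤ centralizer ({b} : Set G) := iSup_le fun i l hl => by
      rw [mem_centralizer_singleton_iff]
      have hn : b * l * b⁻¹ ∈ ⁅V, X i⁆ := (mem_normalizer_iff.1
        (norm_comm h hBH (hXn i) hb) l).1 hl
      have hc := (card_of_Tv h (hTv i)).1
      by_cases hl1 : l = 1
      · rw [hl1, mul_one, one_mul]
      have hl2 : b * l * b⁻¹ ≠ 1 := fun e => hl1 (by
        rwa [mul_inv_eq_one, mul_eq_left] at e)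
      haveI : Finite ↥(⁅V, X i⁆ : Subgroup G) := inferInstance
      obtain ⟨x, y, hxy, huniv⟩ := Nat.card_eq_two_iff.1 hc
      have h1 : ∀ z : ↥(⁅V, X i⁆ : Subgroup G), z = x ∨ z = y := fun z => by
        have : z ∈ ({x, y} : Set _) := huniv ▸ Set.mem_univ z
        simpa using this
      have heq : b * l * b⁻¹ = l := by
        rcases h1 ⟨_, hn⟩ with e1 | e1 <;> rcases h1 ⟨l, hl⟩ with e2 | e2 <;>
          rcases h1 1 with e3 | e3
        all_goals first
          | exact congrArg Subtype.val (e1.trans e2.symm)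
          | exact absurd (congrArg Subtype.val (e1.trans e3.symm)) hl2
          | exact absurd (congrArg Subtype.val (e2.trans e3.symm)) hl1
      rw [mul_inv_eq_iff_eq_mul] at heq
      exact heq.symm
    exact fun l hl => (mem_centralizer_singleton_iff.1 (this hl)).symm
  -- `⁅P, B⁆ ≤ L`
  let M : Subgroup G :=
    { carrier := {q | q ∈ V ∧ ∀ b ∈ B, ⁅b, q⁆ ∈ L}
      one_mem' := ⟨one_mem _, fun b _ => by rw [commutatorElement_one_right]; exact one_mem _⟩
      mul_mem' := fun {u w} hu hw => ⟨mul_mem hu.1 hw.1, fun b hb => by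
        have : ⁅b, u * w⁆ = ⁅b, u⁆ * (u * ⁅b, w⁆ * u⁻¹) := by
          simp only [commutatorElement_def]; group
        rw [this, hVV u hu.1 _ (hLV (hw.2 b hb)), mul_inv_cancel_right]
        exact mul_mem (hu.2 b hb) (hw.2 b hb)⟩
      inv_mem' := fun {u} hu => ⟨inv_mem hu.1, fun b hb => by
        have : ⁅b, u⁻¹⁆ = u⁻¹ * ⁅b, u⁆⁻¹ * u := by simp only [commutatorElement_def]; group
        rw [this, hVV _ (inv_mem hu.1) _ (inv_mem (hLV (hu.2 b hb))), mul_assoc, inv_mul_cancel, mul_one]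
        exact inv_mem (hu.2 b hb)⟩ }
  have hPM : P ≤ M := iSup_le fun i q hq => by
    refine ⟨(fac_spec h (hTv i)).comm_le hq, fun b hb => mem_iSup_of_mem i ?_⟩
    have hbq : b * q * b⁻¹ ∈ ⁅V, fac K (X i)⁆ :=
      (mem_normalizer_iff.1 (norm_comm h hBH (hFn i) hb) q).1 hq
    have hle : ⁅V, X i⁆ ≤ ⁅V, fac K (X i)⁆ := commutator_mono le_rfl (le_fac K (X i))
    have hidx : (⁅V, X i⁆.subgroupOf ⁅V, fac K (X i)⁆).index = 2 := by
      have h1 := (⁅V, X i⁆.subgroupOf ⁅V, fac K (X i)⁆).card_mul_index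
      rw [Nat.card_congr (subgroupOfEquivOfLe hle).toEquiv, (card_of_Tv h (hTv i)).1,
        (fac_spec h (hTv i)).comm_card] at h1
      omega
    rw [commutatorElement_def]
    have hiff := mul_mem_iff_of_index_two (H := ⁅V, X i⁆.subgroupOf ⁅V, fac K (X i)⁆) hidx
      (a := ⟨b * q * b⁻¹, hbq⟩) (b := ⟨q⁻¹, inv_mem hq⟩)
    refine hiff.2 ?_
    show (b * q * b⁻¹ ∈ ⁅V, X i⁆) ↔ (q⁻¹ ∈ ⁅V, X i⁆)
    rw [inv_mem_iff]
    exact ((mem_normalizer_iff.1 (norm_comm h hBH (hXn i) hb)) q).symm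
  have hPB : ⁅P, B⁆ ≤ L := by
    rw [commutator_comm, commutator_le]
    exact fun b hb q hq => (hPM hq).2 b hb
  set W0 := ⁅U, B⁆ with hW0
  have hW0V : W0 ≤ V := commutator_le_of_le_normalizer hBV hUV
  have hWle : W ≤ W0 ⊔ L := by
    refine (commutator_mono hUP le_rfl).trans ?_
    rw [commutator_sup_left h.elem.1 hBV hUV hPV]
    exact sup_le_sup le_rfl hPB
  have hUC : U ≤ W ⊔ (V ⊓ centralizer (B : Set G)) := by
    refine le_of_le_of_eq (le_inf hUV (le_centralizer_iff.1 ?_)) hC1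
    rw [← hsup]
    refine iSup_le fun i => le_centralizer_iff.1 ?_
    exact inf_le_right.trans (centralizer_le (SetLike.coe_subset_coe.2
      ((le_fac K (X i)).trans (le_iSup (fun j => fac K (X j)) i))))
  have hLB : ⁅L, B⁆ = ⊥ := commutator_eq_bot_iff_le_centralizer.2 fun l hl =>
    mem_centralizer_iff.2 fun b hb => hLfix b hb l hl
  have hW0 : W0 = ⊥ := by
    refine eq_bot_of_le_commutator hVp hBV (fun a ha => ?_) hW0V ?_
    · obtain ⟨j, hj⟩ := hB ⟨a, ha⟩
      exact ⟨j, by rw [show a ^ 2 ^ j = 1 from congrArg Subtype.val hj]; exact one_mem _⟩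
    · have hWV : W ≤ V := commutator_le_of_le_normalizer hBV le_rfl
      calc W0 ≤ ⁅W ⊔ (V ⊓ centralizer (B : Set G)), B⁆ := commutator_mono hUC le_rfl
        _ = ⁅W, B⁆ := by
            rw [commutator_sup_left h.elem.1 hBV hWV inf_le_left,
              commutator_eq_bot_iff_le_centralizer.2 inf_le_right, sup_bot_eq]
        _ ≤ ⁅W0 ⊔ L, B⁆ := commutator_mono hWle le_rfl
        _ = ⁅W0, B⁆ := by
            rw [commutator_sup_left h.elem.1 hBV hW0V hLV, hLB, sup_bot_eq]
  refine ⟨hbest, hBB, fun b hb => mem_centralizer_iff.2 fun v hv => ?_⟩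
  have hm : ⁅b, v⁆ ∈ L := by
    have := hWle (comm_mem_commutator_swap hb hv)
    rwa [hW0, bot_sup_eq] at this
  exact (mul_inv_eq_iff_eq_mul.1 (hsq1 b v (hLfix b hb _ hm).symm (hLV hm))).symm

end CfsgLib.Core.ThompsonS3
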