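import Cfsg.Agent.Lib.Core.ThompsonS3.Elementary
import Cfsg.Agent.Lib.Techniques2.ThompsonA
import Cfsg.Agent.Lib.Core.PLengthTwoMaximal
import Cfsg.Agent.Lib.PGroups.FrattiniModule
import Cfsg.Agent.Lib.Orders.OrderConjugate
import Cfsg.Agent.Lib.Components.FStar

/-!
# Thompson factorisation or a product of copies of `S₃`
-/

set_option autoImplicit false

namespace CfsgLib.Core.ThompsonS3

open Subgroup Cfsg CfsgLib.PLocal
open scoped commutatorElement

variable {X : Type*} [Group X]

theorem isMulCommutative_map {Y : Type*} [Group Y] {A : Subgroup X} (hA : IsMulCommutative A)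
    (f : X →* Y) : IsMulCommutative (A.map f) := by
  refine le_centralizer_iff_isMulCommutative.1 ?_
  rintro _ ⟨a, ha, rfl⟩
  refine mem_centralizer_iff.2 ?_
  rintro _ ⟨b, hb, rfl⟩
  rw [← map_mul, ← map_mul, comm_of_mem hA hb ha]

theorem isMaxIn_map_conj {T A : Subgroup X} (g : X)
    (hA : IsMaxIn (fun A : Subgroup X => IsMulCommutative A) T A) :
    IsMaxIn (fun A : Subgroup X => IsMulCommutative A) (T.map (MulAut.conj g).toMonoidHom)
      (A.map (MulAut.conj g).toMonoidHom) := by
  refine ⟨map_mono hA.1, isMulCommutative_map hA.2.1 _, fun B hB hBc => ?_⟩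
  rw [Subgroup.card_map_of_injective (MulAut.conj g).injective]
  have h1 : B.map (MulAut.conj g).symm.toMonoidHom ≤ T := by
    refine (map_mono hB).trans ?_
    rw [Subgroup.map_map]
    intro x hx
    obtain ⟨t, ht, rfl⟩ := hx
    simpa using ht
  have := hA.2.2 _ h1 (isMulCommutative_map hBc _)
  rwa [Subgroup.card_map_of_injective (MulAut.conj g).symm.injective] at this

variable [Finite X]

/-- An abelian subgroup of largest order in a `2`-group containing the abelian group `W`
maximises `|B| |C_W(B)|` among its subgroups. -/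
theorem measure_le {S W A : Subgroup X} (hW : IsMulCommutative W) (hWS : W ≤ S)
    (hA : IsMaxIn (fun A : Subgroup X => IsMulCommutative A) S A) {B : Subgroup X} (hB : B ≤ A) :
    offMeasure W B ≤ offMeasure W A := by
  set U := W ⊓ centralizer (B : Set X)
  have hBU : B ≤ centralizer (U : Set X) := le_centralizer_centralizer_inf W B
  have hcm := CfsgLib.Techniques.abelian_sup (CfsgLib.Techniques.abelian_mono hA.2.1 hB)
    (CfsgLib.Techniques.abelian_mono hW inf_le_left) hBU
  have h1 := CfsgLib.PLocal.card_sup_mul_card_inf B U (hBU.trans (centralizer_le_normalizer _))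
  show Nat.card B * Nat.card U ≤ _
  rw [h1]
  refine Nat.mul_le_mul (hA.2.2 _ (sup_le (hB.trans hA.1) (inf_le_left.trans hWS)) hcm)
    (card_le_of_le ?_)
  exact le_inf (inf_le_right.trans inf_le_left)
    (fun x hx => le_centralizer_iff_isMulCommutative.2 hA.2.1 (hB hx.1))

/-- The image of `Y` in `X/C(W)` is a product of copies of `S₃`, when `O₂` of that quotient is
trivial and `Y` is generated by largest abelian subgroups of Sylow 2-subgroups. -/
theorem exists_equiv_pi (hsol : Group.IsSolvable X) (W C Y : Subgroup X) [W.Normal] [C.Normal]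
    [Y.Normal] (hW : Cfsg.IsElementaryAbelian 2 W) (hCW : C = centralizer (W : Set X))
    (hO : Cfsg.pCore 2 (X ⧸ C) = ⊥) (hYC : ¬ Y ≤ C)
    (hgen : ∀ N : Subgroup X, (∀ (S : Sylow 2 X) (A : Subgroup X), A ≤ Y →
      IsMaxIn (fun A : Subgroup X => IsMulCommutative A) (S : Subgroup X) A → A ≤ N) → Y ≤ N) :
    ∃ n : ℕ, 1 ≤ n ∧ Nonempty (↥Y ⧸ C.subgroupOf Y ≃* (Fin n → Equiv.Perm (Fin 3))) := by
  classical
  haveI : Fact (Nat.Prime 2) := ⟨Nat.prime_two⟩
  haveI := hsol
  have hWg : IsPGroup 2 W := fun v => ⟨1, Subtype.ext (by simpa using hW.2 v v.2)⟩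
  let φ : X ⧸ C →* MulAut W := QuotientGroup.lift C MulAut.conjNormal fun c hc => by
    refine MulEquiv.ext fun w => Subtype.ext ?_
    rw [MulAut.conjNormal_apply]
    rw [hCW] at hc
    rw [← mem_centralizer_iff.1 hc w w.2, mul_inv_cancel_right]
    rfl
  have hφ : ∀ (g : X) (w : W), ((φ (g : X ⧸ C) w : W) : X) = g * w * g⁻¹ := fun g w =>
    MulAut.conjNormal_apply g w
  let G := W ⋊[φ] (X ⧸ C)
  haveI : Finite G := Finite.of_equiv _ SemidirectProduct.equivProd.symm
  let π := QuotientGroup.mk' C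
  let f : X →* G := (SemidirectProduct.inr).comp π
  have hfker : ∀ x : X, f x = 1 ↔ x ∈ C := fun x => by
    rw [← QuotientGroup.eq_one_iff]
    exact ⟨fun h => SemidirectProduct.inr_injective (h.trans (map_one _).symm),
      fun h => by show SemidirectProduct.inr (π x) = 1; rw [show π x = 1 from h, map_one]⟩
  have hker : f.ker = C := Subgroup.ext fun x => hfker x
  let ι : W →* G := SemidirectProduct.inl
  have hι : Function.Injective ι := SemidirectProduct.inl_injective
  have hconj : ∀ (x : X) (w : W),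
      f x * ι w * (f x)⁻¹ = ι ⟨x * w * x⁻¹, (inferInstance : W.Normal).conj_mem w w.2 x⟩ := by
    intro x w
    show SemidirectProduct.inr (π x) * SemidirectProduct.inl w * (SemidirectProduct.inr (π x))⁻¹ = _
    rw [← map_inv (SemidirectProduct.inr (φ := φ)) (π x), ← SemidirectProduct.inl_aut]
    exact congrArg _ (Subtype.ext (hφ x w))
  set V : Subgroup G := ι.range with hVdef
  have hVel : Cfsg.IsElementaryAbelian 2 V := by
    refine ⟨le_centralizer_iff_isMulCommutative.1 ?_, ?_⟩
    · rintro _ ⟨a, rfl⟩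
      refine mem_centralizer_iff.2 ?_
      rintro _ ⟨b, rfl⟩
      rw [← map_mul, ← map_mul, show b * a = a * b from Subtype.ext (comm_of_mem hW.1 b.2 a.2)]
    · rintro _ ⟨a, rfl⟩
      rw [← map_pow, show a ^ 2 = 1 from Subtype.ext (hW.2 a a.2), map_one]
  have hfV : ∀ x : X, f x ∈ normalizer (V : Set G) := by
    have hle : ∀ x : X, ∀ v ∈ V, f x * v * (f x)⁻¹ ∈ V := by
      rintro x _ ⟨w, rfl⟩
      exact ⟨_, (hconj x w).symm⟩
    intro x
    rw [mem_normalizer_iff_map_conj_eq]
    refine eq_of_le_of_card_ge ?_ (Subgroup.card_map_of_injective (MulAut.conj (f x)).injective).ge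
    rintro _ ⟨v, hv, rfl⟩
    exact hle x v hv
  set H : Subgroup G := Y.map f with hHdef
  have hHV : H ≤ normalizer (V : Set G) := by
    rintro _ ⟨y, -, rfl⟩
    exact hfV y
  have hfix : ∀ (x : X) (w : W), f x * ι w = ι w * f x ↔ x * w = w * x := by
    intro x w
    refine Iff.trans mul_inv_eq_iff_eq_mul.symm (Iff.trans ?_ mul_inv_eq_iff_eq_mul)
    rw [hconj, hι.eq_iff, Subtype.ext_iff]
  have hfaith : H ⊓ centralizer (V : Set G) = ⊥ := by
    rw [eq_bot_iff]
    rintro g hg
    obtain ⟨y, hy, rfl⟩ := (mem_inf.1 hg).1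
    rw [mem_bot, hfker, hCW]
    exact mem_centralizer_iff.2 fun w hw =>
      ((hfix y ⟨w, hw⟩).1 ((mem_centralizer_iff.1 (mem_inf.1 hg).2 _ ⟨⟨w, hw⟩, rfl⟩)).symm).symm
  have hcent : ∀ A : Subgroup X, V ⊓ centralizer ((A.map f : Subgroup G) : Set G) =
      ((W ⊓ centralizer (A : Set X)).subgroupOf W).map ι := by
    intro A
    ext v
    constructor
    · intro hv
      obtain ⟨w, rfl⟩ := (mem_inf.1 hv).1
      refine mem_map_of_mem ι (mem_inf.2 ⟨w.2, mem_centralizer_iff.2 fun a ha => ?_⟩)
      exact (hfix a w).1 (mem_centralizer_iff.1 (mem_inf.1 hv).2 _ (mem_map_of_mem f ha))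
    · rintro ⟨w, hw, rfl⟩
      refine mem_inf.2 ⟨⟨w, rfl⟩, mem_centralizer_iff.2 ?_⟩
      rintro _ ⟨a, ha, rfl⟩
      exact (hfix a w).2 (mem_centralizer_iff.1 (mem_inf.1 hw).2 a ha)
  have hcard : ∀ A : Subgroup X, Nat.card (A.map f) * Nat.card (A ⊓ C : Subgroup X) = Nat.card A := by
    intro A
    have h1 := relIndex_ker f (K := A)
    rw [hker] at h1
    have h2 := (C.subgroupOf A).card_mul_index
    rw [← h1, mul_comm, ← h2]
    congr 1
    rw [← inf_subgroupOf_left, Nat.card_congr (subgroupOfEquivOfLe (inf_le_left : A ⊓ C ≤ A)).toEquiv]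
  have hoff : ∀ A : Subgroup X,
      offMeasure V (A.map f) * Nat.card (A ⊓ C : Subgroup X) = offMeasure W A := by
    intro A
    simp only [offMeasure]
    rw [hcent, card_map_of_injective hι,
      Nat.card_congr (subgroupOfEquivOfLe (inf_le_left : W ⊓ centralizer (A : Set X) ≤ W)).toEquiv,
      mul_right_comm, hcard]
  have hsolH : Group.IsSolvable ↥H := by
    have : Group.IsSolvable ↥Y := inferInstance
    exact solvable_of_surjective (f.subgroupMap_surjective Y)
  have hOH : Cfsg.pCore 2 ↥H = ⊥ := by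
    let e : ↥(Y.map π) ≃* ↥((Y.map π).map (SemidirectProduct.inr (φ := φ))) :=
      (Y.map π).equivMapOfInjective _ SemidirectProduct.inr_injective
    have hY : Cfsg.pCore 2 ↥(Y.map π) = ⊥ := by
      haveI : (Y.map π).Normal := Subgroup.Normal.map inferInstance π (QuotientGroup.mk'_surjective C)
      have := CfsgLib.Core.map_subtype_pCore_le (p := 2) (Y.map π)
      rw [hO, le_bot_iff, Subgroup.map_eq_bot_iff_of_injective _ (Subgroup.subtype_injective _)] at this
      exact this
    have hH : H = (Y.map π).map (SemidirectProduct.inr (φ := φ)) := (Subgroup.map_map _ _ _).symm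
    rw [← CfsgLib.Core.map_equiv_pCore (e.trans (MulEquiv.subgroupCongr hH.symm)), hY, Subgroup.map_bot]
  have hsetup := FF.setup_core hVel hHV hfaith (CfsgLib.PGroups.centralizer_pPrimeCore_le
    (CfsgLib.Core.isPSolvable_of_isSolvable hsolH) hOH)
  set K : Subgroup G := (Cfsg.pPrimeCore 2 ↥H).map H.subtype
  have hgen' : H = ⨆ B : {B : Subgroup G // B ≤ H ∧ Cfsg.IsBestOffenderOn 2 V B}, (B : Subgroup G) := by
    refine le_antisymm (map_le_iff_le_comap.2 (hgen _ fun S A hAY hA => map_le_iff_le_comap.1 ?_))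
      (iSup_le fun B => B.2.1)
    refine le_iSup_of_le (⟨A.map f, map_mono hAY, ?_⟩ :
      {B : Subgroup G // B ≤ H ∧ Cfsg.IsBestOffenderOn 2 V B}) le_rfl
    refine bestOffender_of_abelian hsetup (map_mono hAY) ((S.2.to_le hA.1).map f)
      (isMulCommutative_map hA.2.1 f) fun D hD => ?_
    set B := A ⊓ D.comap f with hBdef
    have hBD : B.map f = D := by
      refine le_antisymm (map_le_iff_le_comap.2 inf_le_right) fun d hd => ?_
      obtain ⟨a, ha, rfl⟩ := hD hd
      exact mem_map_of_mem f (mem_inf.2 ⟨ha, hd⟩)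
    have hinf : B ⊓ C = A ⊓ C := by
      refine le_antisymm (inf_le_inf_right _ inf_le_left) (le_inf (le_inf inf_le_left ?_) inf_le_right)
      intro x hx
      show f x ∈ D
      rw [(hfker x).2 (mem_inf.1 hx).2]
      exact one_mem _
    refine Nat.le_of_mul_le_mul_right ?_ (Nat.card_pos (α := (A ⊓ C : Subgroup X)))
    rw [hoff A, ← hinf, ← hBD, hoff B]
    exact measure_le hW.1 (hWg.le_sylow_of_normal S) hA inf_le_left
  have hH1 : H ≠ ⊥ := fun h => hYC fun y hy =>
    (hfker y).1 (mem_bot.1 (h ▸ mem_map_of_mem f hy))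
  set I := {E : Subgroup G // ∃ Z, FF.Tv 2 V H Z ∧ E = FF.fac K Z}
  haveI : Finite I := Subtype.finite
  haveI : Fintype I := Fintype.ofFinite I
  let fam : Fin (Fintype.card I) → Subgroup G := fun i => ((Fintype.equivFin I).symm i).1
  have hfam : ∀ i, ∃ Z, FF.Tv 2 V H Z ∧ fam i = FF.fac K Z := fun i => ((Fintype.equivFin I).symm i).2
  have hinj : Function.Injective fam := Subtype.val_injective.comp (Fintype.equivFin I).symm.injective
  obtain ⟨-, hiso, hind, hsup, -, -⟩ := FF.structure_thm hsetup hgen' hH1 fam hfam hinj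
    fun Z tZ => ⟨Fintype.equivFin I ⟨_, Z, tZ, rfl⟩, by simp [fam]⟩
  refine ⟨Fintype.card I, ?_, ?_⟩
  · by_contra hn
    have h0 : Fintype.card I = 0 := by omega
    haveI : IsEmpty (Fin (Fintype.card I)) := by rw [h0]; infer_instance
    exact hH1 (by rw [← hsup, iSup_of_empty])
  have hcomm : Pairwise fun i j => ∀ x y : G, x ∈ fam i → y ∈ fam j → Commute x y := by
    intro i j hij x y hx hy
    obtain ⟨Z, tZ, hZ⟩ := hfam i
    obtain ⟨Z', tZ', hZ'⟩ := hfam j
    rcases FF.fac_cases hsetup tZ tZ' with he | ⟨-, -, hc⟩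
    · exact absurd (hinj (hZ.trans (he.trans hZ'.symm))) hij
    · rw [hZ] at hx
      rw [hZ'] at hy
      have := commutator_mem_commutator hx hy
      rw [hc, mem_bot] at this
      exact commutatorElement_eq_one_iff_mul_comm.1 this
  have hrange : (Subgroup.noncommPiCoprod hcomm).range = H := by
    rw [Subgroup.noncommPiCoprod_range]; exact hsup
  let e1 : (∀ i, fam i) ≃* ↥H :=
    (MonoidHom.ofInjective (Subgroup.injective_noncommPiCoprod_of_iSupIndep (hcomm := hcomm) hind)).trans
      (MulEquiv.subgroupCongr hrange)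
  have hperm : ∀ i, Nonempty (↥(fam i) ≃* Equiv.Perm (Fin 3)) := by
    intro i
    obtain ⟨e⟩ := (hiso i).2.1
    obtain ⟨e'⟩ := CfsgLib.Orders.nonempty_perm_three_of_card_six
      (G := Matrix.SpecialLinearGroup (Fin 2) (ZMod 2))
      (by rw [Nat.card_eq_fintype_card]; decide) (by decide)
    exact ⟨e.trans e'⟩
  let e2 : (∀ i, fam i) ≃* (Fin (Fintype.card I) → Equiv.Perm (Fin 3)) :=
    MulEquiv.piCongrRight fun i => (hperm i).some
  let g : ↥Y →* ↥H := f.subgroupMap Y
  have hgk : g.ker = C.subgroupOf Y := by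
    ext y
    rw [MonoidHom.mem_ker, mem_subgroupOf, ← hfker]
    exact ⟨fun h => congrArg Subtype.val h, fun h => Subtype.ext h⟩
  exact ⟨(((QuotientGroup.quotientMulEquivOfEq hgk.symm).trans
    (QuotientGroup.quotientKerEquivOfSurjective g (f.subgroupMap_surjective Y))).trans e1.symm).trans e2⟩

/-- Thompson factorisation modulo a product of copies of `S₃`. -/
theorem factorization (hsol : Group.IsSolvable X)
    (hF : Cfsg.fittingSubgroup X = Cfsg.pCore 2 X) (T : Sylow 2 X) :
    (normalClosure (Cfsg.thompsonSubgroupAOf (T : Subgroup X) : Set X)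
        ⊔ normalizer (Cfsg.thompsonSubgroupAOf (T : Subgroup X) : Set X) = ⊤) ∧
      (normalClosure (Cfsg.thompsonSubgroupAOf (T : Subgroup X) : Set X) ≤
          (centralizer (((T : Subgroup X) ⊓ centralizer ((T : Subgroup X) : Set X) : Subgroup X) : Set X)).normalCore ∨
        ∃ n : ℕ, 1 ≤ n ∧ Nonempty
          (↥(normalClosure (Cfsg.thompsonSubgroupAOf (T : Subgroup X) : Set X)) ⧸
            ((centralizer (((T : Subgroup X) ⊓ centralizer ((T : Subgroup X) : Set X) : Subgroup X) : Set X)).normalCore).subgroupOf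
              (normalClosure (Cfsg.thompsonSubgroupAOf (T : Subgroup X) : Set X))
          ≃* (Fin n → Equiv.Perm (Fin 3)))) := by
  classical
  haveI : Fact (Nat.Prime 2) := ⟨Nat.prime_two⟩
  set S : Subgroup X := (T : Subgroup X) with hS
  set J := Cfsg.thompsonSubgroupAOf S with hJ
  set Y := normalClosure (J : Set X) with hY
  set Z := S ⊓ centralizer (S : Set X) with hZ
  set C := (centralizer (Z : Set X)).normalCore with hC
  have hJS : J ≤ S := map_subtype_le _
  have hJY : J ≤ Y := le_normalClosure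
  have hJsSup : J = sSup {A : Subgroup X | IsMaxIn (fun A : Subgroup X => IsMulCommutative A) S A} := by
    rw [hJ, thompsonSubgroupAOf, thompsonSubgroupA]
    refine le_antisymm (map_le_iff_le_comap.2 (sSup_le fun A hA => map_le_iff_le_comap.1
      (le_sSup ((maxAbelian_image S).le ⟨A, hA, rfl⟩)))) (sSup_le fun A hA => ?_)
    obtain ⟨A, hA', rfl⟩ := (maxAbelian_image S).ge hA
    exact map_mono (le_sSup hA')
  have hAJ : ∀ A : Subgroup X, IsMaxIn (fun A : Subgroup X => IsMulCommutative A) S A → A ≤ J :=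
    fun A hA => hJsSup ▸ le_sSup hA
  refine ⟨?_, ?_⟩
  · set U := S ⊓ Y with hU
    have hJU : Cfsg.thompsonSubgroupAOf U = J :=
      CfsgLib.Techniques.thompsonAOf_eq_of_le inf_le_left fun A hA => le_inf hA.1 ((hAJ A hA).trans hJY)
    have hndY : ¬ 2 ∣ S.relIndex Y := fun hd =>
      T.not_dvd_index (hd.trans (CfsgLib.HallGen.relIndex_dvd_index_right _ _))
    let TY : Sylow 2 Y := (T.2.comap_subtype).toSylow hndY
    have hTY : (TY : Subgroup Y).map Y.subtype = U := subgroupOf_map_subtype _ _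
    have hfr : normalizer (U : Set X) ⊔ Y = ⊤ := hTY ▸ Sylow.normalizer_sup_eq_top TY
    refine top_unique (hfr.ge.trans (sup_le (le_sup_of_le_right ?_) le_sup_left))
    intro g hg
    rw [mem_normalizer_iff_map_conj_eq] at hg ⊢
    rw [← hJU, CfsgLib.Techniques.thompsonAOf_map _ U
      (by rw [(MonoidHom.ker_eq_bot_iff _).2 (MulAut.conj g).injective]; exact disjoint_bot_right), hg]
  by_cases hYC : Y ≤ C
  · exact Or.inl hYC
  refine Or.inr ?_
  haveI : C.Normal := normalCore_normal _
  set O := Cfsg.pCore 2 X with hO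
  haveI : O.Normal := CfsgLib.Core.normal_pCore 2 X
  have hOS : O ≤ S := CfsgLib.Core.pCore_le_sylow T
  have hCO : centralizer (O : Set X) ≤ O := by
    haveI := hsol
    have h := CfsgLib.Components.centralizer_fitting_le_of_isSolvable (G := X)
    rwa [hF] at h
  set Z0 := normalClosure (Z : Set X) with hZ0
  have hZO : Z ≤ O ⊓ centralizer (O : Set X) := by
    have h : Z ≤ centralizer (O : Set X) :=
      inf_le_right.trans (centralizer_le (SetLike.coe_subset_coe.2 hOS))
    exact le_inf (h.trans hCO) h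
  have hZ0O : Z0 ≤ O ⊓ centralizer (O : Set X) := normalClosure_le_normal hZO
  have hZ0ab : IsMulCommutative Z0 := le_centralizer_iff_isMulCommutative.1
    ((hZ0O.trans inf_le_right).trans (centralizer_le (SetLike.coe_subset_coe.2 (hZ0O.trans inf_le_left))))
  have hCZ : C = centralizer (Z0 : Set X) := by
    refine le_antisymm (le_centralizer_iff.1 (normalClosure_le_normal ?_)) ?_
    · exact le_centralizer_iff.1 (normalCore_le _)
    · exact normal_le_normalCore.2 (centralizer_le (SetLike.coe_subset_coe.2 le_normalClosure))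
  have hOq : Cfsg.pCore 2 (X ⧸ C) = ⊥ := by
    set P := (Cfsg.pCore 2 (X ⧸ C)).comap (QuotientGroup.mk' C) with hP
    have hCP : C ≤ P := le_of_eq_of_le (QuotientGroup.ker_mk' C).symm (ker_le_comap _ _)
    have hPZ : P ≤ centralizer (Z : Set X) := by
      have hnd : ¬ 2 ∣ S.relIndex P := fun hd =>
        T.not_dvd_index (hd.trans (CfsgLib.HallGen.relIndex_dvd_index_right _ _))
      have h2 : ∃ j, C.relIndex P = 2 ^ j := by
        obtain ⟨j, hj⟩ := IsPGroup.iff_card.1 (CfsgLib.Core.isPGroup_pCore 2 (X ⧸ C))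
        refine ⟨j, ?_⟩
        have h1 := relIndex_ker (QuotientGroup.mk' C) (K := P)
        rw [QuotientGroup.ker_mk'] at h1
        rw [h1, hP, map_comap_eq_self_of_surjective (QuotientGroup.mk'_surjective C), hj]
      have := CfsgLib.PLocal.sup_eq_of_coprime_relIndex (inf_le_right : S ⊓ P ≤ P) hCP
        (by rwa [inf_relIndex_right]) h2
      rw [← this]
      exact sup_le (inf_le_left.trans (le_centralizer_iff.1 inf_le_right)) (normalCore_le _)
    haveI : P.Normal := (CfsgLib.Core.normal_pCore 2 _).comap _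
    have hPC : P ≤ C := normal_le_normalCore.2 hPZ
    rw [eq_bot_iff]
    intro x hx
    obtain ⟨g, rfl⟩ := QuotientGroup.mk'_surjective C x
    exact (QuotientGroup.eq_one_iff g).2 (hPC hx)
  let W : Subgroup X :=
    { carrier := {v | v ∈ Z0 ∧ v ^ 2 = 1}
      one_mem' := ⟨one_mem _, one_pow _⟩
      mul_mem' := fun {a b} ha hb => ⟨mul_mem ha.1 hb.1, by
        rw [Commute.mul_pow (comm_of_mem hZ0ab ha.1 hb.1), ha.2, hb.2, one_mul]⟩
      inv_mem' := fun {a} ha => ⟨inv_mem ha.1, by rw [inv_pow, ha.2, inv_one]⟩ }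
  haveI : W.Normal := ⟨fun v hv g =>
    ⟨(normalClosure_normal (s := (Z : Set X))).conj_mem v hv.1 g, by rw [conj_pow, hv.2, mul_one, mul_inv_cancel]⟩⟩
  have hWel : Cfsg.IsElementaryAbelian 2 W :=
    ⟨CfsgLib.Techniques.abelian_mono hZ0ab fun v hv => hv.1, fun v hv => hv.2⟩
  have hCW : C = centralizer (W : Set X) := by
    refine le_antisymm (hCZ.le.trans (centralizer_le fun v hv => hv.1)) ?_
    have h2g : IsPGroup 2 ((centralizer (W : Set X)).map (QuotientGroup.mk' C)) := by
      rintro ⟨_, g, hg, rfl⟩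
      obtain ⟨i, m, hm, hgm⟩ := Nat.exists_eq_pow_mul_and_not_dvd (orderOf_pos g).ne' 2 (by norm_num)
      refine ⟨i, Subtype.ext ?_⟩
      show (QuotientGroup.mk' C g) ^ 2 ^ i = 1
      rw [← map_pow]
      refine (QuotientGroup.eq_one_iff _).2 ?_
      rw [hCZ]
      haveI := hZ0ab
      have hho : orderOf (g ^ 2 ^ i) = m := by
        rw [orderOf_pow_of_dvd (pow_ne_zero _ (by norm_num)) (hgm ▸ dvd_mul_right _ _), hgm,
          Nat.mul_div_cancel_left _ (pow_pos (by norm_num) _)]
      refine CfsgLib.Core.abelian_centralizes_of_prime_order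
        (A := zpowers (g ^ 2 ^ i)) (le_normalizer_of_normal _ _) ?_ (fun v hv hvp a ha => ?_) (mem_zpowers _)
      · rw [Nat.card_zpowers, hho]
        obtain ⟨j, hj⟩ := IsPGroup.iff_card.1
          ((CfsgLib.Core.isPGroup_pCore 2 X).to_le (hZ0O.trans inf_le_left))
        rw [hj]
        exact ((Nat.prime_two.coprime_iff_not_dvd.2 hm).symm).pow_right j
      · have hv2 : v ^ 2 = 1 := by
          obtain ⟨j, hj⟩ := (CfsgLib.Core.isPGroup_pCore 2 X) ⟨v, (mem_inf.1 (hZ0O hv)).1⟩
          have hd : orderOf v ∣ 2 ^ j := orderOf_dvd_of_pow_eq_one (congrArg Subtype.val hj)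
          have := (Nat.prime_dvd_prime_iff_eq hvp Nat.prime_two).1 (hvp.dvd_of_dvd_pow hd)
          rw [← this]; exact pow_orderOf_eq_one v
        exact (mem_centralizer_iff.1 ((zpowers_le.2 (pow_mem hg _)) ha) v ⟨hv, hv2⟩).symm
    haveI : ((centralizer (W : Set X)).map (QuotientGroup.mk' C)).Normal :=
      Subgroup.Normal.map inferInstance _ (QuotientGroup.mk'_surjective C)
    have := CfsgLib.Core.le_pCore h2g
    rw [hOq, le_bot_iff, Subgroup.map_eq_bot_iff, QuotientGroup.ker_mk'] at this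
    exact this
  refine exists_equiv_pi hsol W C Y hWel hCW hOq hYC fun N hN => ?_
  refine (closure_le N).2 ?_
  intro x hx
  obtain ⟨j, hj, hjx⟩ := Group.mem_conjugatesOfSet_iff.1 hx
  obtain ⟨g, rfl⟩ := isConj_iff.1 hjx
  have hJN : J ≤ N.comap (MulAut.conj g).toMonoidHom := by
    rw [hJsSup]
    refine sSup_le fun A hA => map_le_iff_le_comap.1 ?_
    let Tg : Sylow 2 X := T.mapSurjective (f := (MulAut.conj g).toMonoidHom) (MulAut.conj g).surjective
    refine hN Tg _ ?_ ?_
    · rintro _ ⟨a, ha, rfl⟩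
      exact (normalClosure_normal (s := (J : Set X))).conj_mem a (hJY (hAJ A hA ha)) g
    · exact isMaxIn_map_conj g hA
  exact hJN hj

end CfsgLib.Core.ThompsonS3
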